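import Groth.Agent.H23.MulTangent
import Groth.Agent.WeilExt.Dedekind
import Groth.Agent.S8191
import Mathlib.AlgebraicGeometry.Morphisms.Etale
import Mathlib.AlgebraicGeometry.ZariskisMainTheorem
import Groth.Agent.AlgSpLib.EtLocalInst

/-! # Tangent vectors at the unit and homomorphisms of group curves -/

set_option autoImplicit false
set_option backward.isDefEq.respectTransparency false
set_option backward.isDefEq.respectTransparency.types false
set_option linter.style.haveILetI false
set_option maxHeartbeats 1000000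

universe u

open CategoryTheory Limits AlgebraicGeometry MonoidalCategory CartesianMonoidalCategory MonObj TrivSqZeroExt
open Groth.Agent.GrpSchLib Groth.Agent.H23.MulTangent IsLocalRing

namespace Groth.Agent.EllTan

variable {K : Type u} [Field K]

/-- A homomorphism killing no tangent vector at the unit is unramified. -/
theorem formallyUnramified_of_tangent [IsAlgClosed K] {X Y : Over (Spec (CommRingCat.of K))} [GrpObj X]
    [GrpObj Y] [LocallyOfFiniteType X.hom] (φ : X ⟶ Y) [IsMonHom φ]
    (hφ : ∀ t : specOver K (TrivSqZeroExt K K) ⟶ X,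
      specHom (TrivSqZeroExt.fstHom K K K) ≫ t = 1 → t ≫ φ = 1 → t = 1) :
    FormallyUnramified φ.left := by
  set f := φ.left
  have hw : f ≫ Y.hom = X.hom := Over.w φ
  rw [HasRingHomProperty.iff_appLE (P := @FormallyUnramified)]
  intro V' V e
  obtain ⟨φA, hφA⟩ := Spec.map_surjective (V'.2.fromSpec ≫ Y.hom)
  obtain ⟨φB, hφB⟩ := Spec.map_surjective (V.2.fromSpec ≫ X.hom)
  let A := Γ(Y.left, V'.1)
  let B := Γ(X.left, V.1)
  let : Algebra K A := φA.hom.toAlgebra
  let : Algebra K B := φB.hom.toAlgebra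
  let : Algebra A B := (f.appLE V'.1 V.1 e).hom.toAlgebra
  have hcomp : φA ≫ f.appLE V'.1 V.1 e = φB := by
    apply Spec.map_injective
    rw [Spec.map_comp, hφA, hφB, IsAffineOpen.SpecMap_appLE_fromSpec_assoc f V'.2 V.2 e, hw]
  have : IsScalarTower K A B := IsScalarTower.of_algebraMap_eq fun c =>
    (congrArg (fun q => q.hom c) hcomp).symm
  have hft : Algebra.FiniteType K B := by
    have h : LocallyOfFiniteType (V.2.fromSpec ≫ X.hom) := inferInstance
    rw [← hφB, HasRingHomProperty.Spec_iff (P := @LocallyOfFiniteType)] at h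
    exact h
  have : Algebra.FiniteType A B := Algebra.FiniteType.of_restrictScalars_finiteType K A B
  show Algebra.FormallyUnramified A B
  have : IsJacobsonRing B := isJacobsonRing_of_finiteType (A := K)
  refine ⟨(Submodule.subsingleton_iff B).1 (subsingleton_iff_bot_eq_top.1 ?_)⟩
  by_contra hne
  obtain ⟨m, hm, hsupp⟩ : ∃ m : Ideal B, m.IsMaximal ∧
      (⊥ : Submodule B Ω[B⁄A]).colon ((⊤ : Submodule B Ω[B⁄A]) : Set _) ≤ m :=
    Ideal.exists_le_maximal _ fun htop => hne (by
      refine (eq_bot_iff.2 fun x _ => ?_).symm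
      have := (Submodule.mem_colon).1 ((Ideal.eq_top_iff_one _).1 htop) x trivial
      simpa using this)
  have hlt : m • (⊤ : Submodule B Ω[B⁄A]) < ⊤ := by
    refine lt_of_le_of_ne le_top fun h => ?_
    obtain ⟨r, hr1, hr⟩ := Submodule.exists_sub_one_mem_and_smul_eq_zero_of_fg_of_le_smul m
      (⊤ : Submodule B Ω[B⁄A]) Module.Finite.fg_top h.ge
    have hrm : r ∈ m := hsupp (Submodule.mem_colon.2 fun x _ => by simpa using hr x trivial)
    exact hm.ne_top ((Ideal.eq_top_iff_one m).2 (by simpa using m.sub_mem hrm hr1))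
  -- the residue field of `m` is `K`
  have : Module.Finite K (B ⧸ m) := by
    let := Ideal.Quotient.field m
    exact finite_of_finite_type_of_isJacobsonRing K (B ⧸ m)
  let := Ideal.Quotient.field m
  have hbij : Function.Bijective (algebraMap K (B ⧸ m)) :=
    ⟨(algebraMap K (B ⧸ m)).injective,
      (IsAlgClosed.algebraMap_bijective_of_isIntegral (k := K) (K := B ⧸ m)).2⟩
  let eK : K ≃ₐ[K] B ⧸ m := AlgEquiv.ofBijective (Algebra.ofId K (B ⧸ m)) hbij
  let χ : B →ₐ[K] K := eK.symm.toAlgHom.comp (Ideal.Quotient.mkₐ K m)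
  have hχm : ∀ b, b ∈ m → χ b = 0 := fun b hb => by
    simp [χ, Ideal.Quotient.eq_zero_iff_mem.2 hb]
  -- a functional on the cotangent space
  obtain ⟨x, -, hx⟩ := SetLike.exists_of_lt hlt
  let Q := Ω[B⁄A] ⧸ (m • (⊤ : Submodule B Ω[B⁄A]))
  obtain ⟨ℓ, hℓ⟩ := Module.Projective.exists_dual_ne_zero K
    (show (Submodule.Quotient.mk x : Q) ≠ 0 by rwa [Ne, Submodule.Quotient.mk_eq_zero])
  let D : B →ₗ[K] K := ℓ ∘ₗ (((m • (⊤ : Submodule B Ω[B⁄A])).mkQ.restrictScalars K) ∘ₗ
    ((KaehlerDifferential.D A B).toLinearMap.restrictScalars K))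
  have hsmul : ∀ (b : B) (q : Q), b • q = χ b • q := by
    intro b q
    obtain ⟨y, rfl⟩ := Submodule.Quotient.mk_surjective _ q
    rw [← algebraMap_smul B (χ b) (Submodule.Quotient.mk y : Q), ← Submodule.Quotient.mk_smul,
      ← Submodule.Quotient.mk_smul, Submodule.Quotient.eq, ← sub_smul]
    refine Submodule.smul_mem_smul ?_ trivial
    rw [← Ideal.Quotient.eq]
    show Ideal.Quotient.mk m b = algebraMap K (B ⧸ m) (χ b)
    exact (eK.apply_symm_apply _).symm
  have hD : ∀ a b, D (a * b) = χ a * D b + χ b * D a := by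
    intro a b
    show ℓ (Submodule.Quotient.mk (KaehlerDifferential.D A B (a * b))) = _
    rw [Derivation.leibniz, Submodule.Quotient.mk_add, Submodule.Quotient.mk_smul,
      Submodule.Quotient.mk_smul, hsmul, hsmul, map_add, map_smul, map_smul]
    rfl
  have hDne : D ≠ 0 := by
    intro h
    apply hℓ
    have : ∀ y ∈ Submodule.span B (Set.range (KaehlerDifferential.D A B)),
        ℓ (Submodule.Quotient.mk y) = 0 := by
      intro y hy
      induction hy using Submodule.span_induction with
      | mem y hy => obtain ⟨b, rfl⟩ := hy; exact LinearMap.congr_fun h b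
      | zero => simp
      | add y z _ _ h1 h2 => rw [Submodule.Quotient.mk_add, map_add, h1, h2, add_zero]
      | smul b y _ h1 => rw [Submodule.Quotient.mk_smul, hsmul, map_smul, h1, smul_zero]
    exact this x (KaehlerDifferential.span_range_derivation A B ▸ trivial)
  obtain ⟨g, hg⟩ := exists_algHom_of_derivation χ D hD
  -- the tangent vector and its translate to the unit
  let t := pt (X := X) V.2.fromSpec hφB.symm g
  let a := pt (X := X) V.2.fromSpec hφB.symm ((TrivSqZeroExt.inlAlgHom K K K).comp χ)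
  have hgA : ∀ c : A, g (algebraMap A B c) = ((TrivSqZeroExt.inlAlgHom K K K).comp χ) (algebraMap A B c) := by
    intro c
    rw [hg]
    have : D (algebraMap A B c) = 0 := by simp [D]
    simp [this]
  have hfn : ∀ (C : Type u) [CommRing C] [Algebra K C] (h : B →ₐ[K] C),
      (pt (X := X) V.2.fromSpec hφB.symm h ≫ φ).left =
        Spec.map (f.appLE V'.1 V.1 e ≫ CommRingCat.ofHom h.toRingHom) ≫ V'.2.fromSpec := by
    intro C _ _ h
    rw [Spec.map_comp, Category.assoc, IsAffineOpen.SpecMap_appLE_fromSpec f V'.2 V.2 e]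
    show (_ ≫ V.2.fromSpec) ≫ f = _
    exact Category.assoc _ _ _
  have htn : t ≫ φ = a ≫ φ := by
    ext1
    rw [hfn, hfn]
    congr 2
    ext1
    exact RingHom.ext hgA
  have hfst : specHom (TrivSqZeroExt.fstHom K K K) ≫ (t * a⁻¹) = 1 := by
    rw [MonObj.comp_mul, GrpObj.comp_inv, pt_comp, pt_comp, mul_inv_eq_one]
    congr 1
    ext b
    simp only [AlgHom.comp_apply, TrivSqZeroExt.fstHom_apply]
    rw [hg]
    simp
    rfl
  have h1 := hφ (t * a⁻¹) hfst
    (by rw [MonObj.mul_comp, GrpObj.inv_comp, htn, mul_inv_cancel])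
  rw [mul_inv_eq_one] at h1
  have := pt_injective V.2.fromSpec hφB.symm h1
  apply hDne
  ext b
  have := congrArg TrivSqZeroExt.snd (AlgHom.congr_fun this b)
  simpa [hg] using this

/-- An unramified map kills no tangent vector. -/
theorem eq_one_of_formallyUnramified {X Y : Over (Spec (CommRingCat.of K))} [GrpObj X] [GrpObj Y]
    (φ : X ⟶ Y) [IsMonHom φ] [FormallyUnramified φ.left] [LocallyOfFiniteType φ.left]
    (t : specOver K (TrivSqZeroExt K K) ⟶ X)
    (ht : specHom (TrivSqZeroExt.fstHom K K K) ≫ t = 1) (hk : t ≫ φ = 1) : t = 1 := by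
  let o : specOver K (TrivSqZeroExt K K) ⟶ X := 1
  have ho : o ≫ φ = 1 := MonObj.one_comp φ
  let z := pullback.lift t.left o.left (congrArg CommaMorphism.left (hk.trans ho.symm) : _)
  have hr : Set.range z ⊆ Set.range (pullback.diagonal φ.left) := by
    rintro _ ⟨q, rfl⟩
    have := subsingleton_spec (K := K) K
    let p₀ : Spec (CommRingCat.of K) := IsLocalRing.closedPoint K
    have e : (specHom (TrivSqZeroExt.fstHom K K K)).left p₀ = q :=
      Subsingleton.elim (α := PrimeSpectrum _) _ _
    have h1 : (specHom (TrivSqZeroExt.fstHom K K K)).left ≫ z =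
        ((specHom (TrivSqZeroExt.fstHom K K K)).left ≫ o.left) ≫ pullback.diagonal φ.left := by
      apply pullback.hom_ext
      · simp only [z, Category.assoc, pullback.lift_fst, pullback.diagonal_fst, Category.comp_id]
        exact congrArg CommaMorphism.left (ht.trans (MonObj.comp_one _).symm)
      · simp only [z, Category.assoc, pullback.lift_snd, pullback.diagonal_snd, Category.comp_id]
    rw [← e, ← Scheme.Hom.comp_apply, h1]
    exact ⟨_, rfl⟩
  have hl := IsOpenImmersion.lift_fac (pullback.diagonal φ.left) z hr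
  have h1 := congrArg (· ≫ pullback.fst φ.left φ.left) hl
  have h2 := congrArg (· ≫ pullback.snd φ.left φ.left) hl
  simp only [z, Category.assoc, pullback.diagonal_fst, pullback.diagonal_snd, Category.comp_id,
    pullback.lift_fst, pullback.lift_snd] at h1 h2
  exact Over.OverMorphism.ext (h1.symm.trans h2)

theorem coheight_le_one_of_dim {X : Scheme.{u}} (hX : topologicalKrullDim X = 1) (x : X) :
    Order.coheight x ≤ 1 := by
  rw [topologicalKrullDim, Order.krullDim_eq_of_orderIso (irreducibleSetEquivPoints (α := ↥X))] at hX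
  have h := (Order.coheight_le_krullDim x).trans_eq hX
  exact WithBot.coe_le_coe.1 h

/-- The tangent space of a group curve is a line. -/
theorem exists_scale {X : Over (Spec (CommRingCat.of K))} [GrpObj X] [Smooth X.hom]
    (hX : topologicalKrullDim X.left = 1)
    (t₁ t₂ : specOver K (TrivSqZeroExt K K) ⟶ X)
    (h₁ : specHom (TrivSqZeroExt.fstHom K K K) ≫ t₁ = 1)
    (h₂ : specHom (TrivSqZeroExt.fstHom K K K) ≫ t₂ = 1) (hne : t₁ ≠ 1) :
    ∃ σ : TrivSqZeroExt K K →ₐ[K] TrivSqZeroExt K K, t₂ = specHom σ ≫ t₁ := by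
  obtain ⟨B, _, _, j, _, hj, χ, hχ⟩ := exists_chart (X := X) η
  have hone : pt j hj χ = 1 := hχ
  obtain ⟨g₁, hg₁, rfl⟩ := exists_pt j hj K t₁ (h₁.trans hone.symm)
  obtain ⟨g₂, hg₂, rfl⟩ := exists_pt j hj K t₂ (h₂.trans hone.symm)
  let m : Ideal B := RingHom.ker χ
  haveI hm : m.IsPrime := RingHom.ker_isPrime χ
  let L := Localization.AtPrime m
  let P : Spec (CommRingCat.of B) := ⟨m, hm⟩
  let _ : Algebra B ((Spec (CommRingCat.of B)).presheaf.stalk P) := StructureSheaf.stalkAlgebra B P
  haveI : IsLocalization.AtPrime ((Spec (CommRingCat.of B)).presheaf.stalk P) m :=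
    StructureSheaf.IsLocalization.to_stalk B P
  let E : X.left.presheaf.stalk (j P) ≃+* L :=
    (asIso (j.stalkMap P)).commRingCatIsoToRingEquiv.trans
      (IsLocalization.algEquiv m.primeCompl ((Spec (CommRingCat.of B)).presheaf.stalk P) L).toRingEquiv
  haveI : IsLocallyNoetherian X.left := LocallyOfFiniteType.isLocallyNoetherian X.hom
  haveI := WeilExt.isRegularLocalRing_stalk
    (WeilExt.isRegularLocalRing_stalk_spec (R := K)) X.hom (j P)
  haveI : IsRegularLocalRing L := IsRegularLocalRing.of_ringEquiv E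
  have hdim : ((maximalIdeal L).spanFinrank : WithBot ℕ∞) ≤ 1 := by
    rw [IsRegularLocalRing.spanFinrank_maximalIdeal, ← ringKrullDim_eq_of_ringEquiv E,
      ringKrullDim_stalk_eq_coheight]
    exact WithBot.coe_le_coe.2 (coheight_le_one_of_dim hX _)
  obtain ⟨π, hπ⟩ : (maximalIdeal L).IsPrincipal := by
    have hd : (maximalIdeal L).spanFinrank ≤ 1 := by exact_mod_cast hdim
    have hfg : (maximalIdeal L).FG := IsNoetherian.noetherian _
    rw [← Submodule.FG.generators_ncard hfg] at hd
    rw [← Submodule.span_generators (maximalIdeal L)]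
    rcases (show (maximalIdeal L).generators.Subsingleton from fun a ha b hb =>
      (Set.ncard_le_one (Submodule.FG.finite_generators hfg)).1 hd a ha b hb).eq_empty_or_singleton with
      h | ⟨π, h⟩
    · rw [h, Submodule.span_empty]; exact ⟨0, by simp⟩
    · rw [h]; exact ⟨π, rfl⟩
  have hu : ∀ g : B →ₐ[K] TrivSqZeroExt K K, (TrivSqZeroExt.fstHom K K K).comp g = χ →
      ∀ s : m.primeCompl, IsUnit (g s) := fun g hg s => by
    refine TrivSqZeroExt.isUnit_iff_isUnit_fst.2 (isUnit_iff_ne_zero.2 fun h => s.2 ?_)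
    exact (AlgHom.congr_fun hg s).symm.trans h
  let G₁ : L →ₐ[K] TrivSqZeroExt K K := IsLocalization.liftAlgHom (hu g₁ hg₁)
  let G₂ : L →ₐ[K] TrivSqZeroExt K K := IsLocalization.liftAlgHom (hu g₂ hg₂)
  have hG₁ : ∀ b, G₁ (algebraMap B L b) = g₁ b := fun b => by
    simp [G₁, IsLocalization.liftAlgHom_apply, IsLocalization.lift_eq]
  have hG₂ : ∀ b, G₂ (algebraMap B L b) = g₂ b := fun b => by
    simp [G₂, IsLocalization.liftAlgHom_apply, IsLocalization.lift_eq]
  have hmax : ∀ G : L →ₐ[K] TrivSqZeroExt K K, (∀ b, (G (algebraMap B L b)).fst = χ b) →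
      ∀ x : L, x ∈ maximalIdeal L → (G x).fst = 0 := by
    intro G hG x hx
    have : maximalIdeal L ≤ RingHom.ker ((TrivSqZeroExt.fstHom K K K).comp G) := by
      rw [← Localization.AtPrime.map_eq_maximalIdeal, Ideal.map_le_iff_le_comap]
      exact fun b hb => (hG b).trans hb
    exact this hx
  have hf₁ : ∀ b, (G₁ (algebraMap B L b)).fst = χ b := fun b =>
    (congrArg fst (hG₁ b)).trans (AlgHom.congr_fun hg₁ b)
  have hf₂ : ∀ b, (G₂ (algebraMap B L b)).fst = χ b := fun b =>
    (congrArg fst (hG₂ b)).trans (AlgHom.congr_fun hg₂ b)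
  have hfst : ∀ x, (G₁ x).fst = (G₂ x).fst := fun x => by
    have : (TrivSqZeroExt.fstHom K K K).toRingHom.comp G₁.toRingHom =
        (TrivSqZeroExt.fstHom K K K).toRingHom.comp G₂.toRingHom :=
      IsLocalization.ringHom_ext m.primeCompl (RingHom.ext fun b => (hf₁ b).trans (hf₂ b).symm)
    exact RingHom.congr_fun this x
  have hπmem : π ∈ maximalIdeal L := by rw [hπ]; exact Submodule.mem_span_singleton_self π
  have key : ∀ x : L, ∃ r : L, (G₁ x).snd = (G₁ π).snd * (G₁ r).fst ∧
      (G₂ x).snd = (G₂ π).snd * (G₁ r).fst := by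
    intro x
    have hx : x - algebraMap K L (G₁ x).fst ∈ maximalIdeal L := by
      refine (IsLocalRing.mem_maximalIdeal _).2 fun h => ?_
      have h' := (h.map G₁).map (TrivSqZeroExt.fstHom K K K)
      simp [TrivSqZeroExt.algebraMap_eq_inl] at h'
    rw [hπ, Submodule.mem_span_singleton] at hx
    obtain ⟨r, hr⟩ := hx
    have hxr : x = algebraMap K L (G₁ x).fst + r * π := by
      rw [smul_eq_mul] at hr; rw [hr]; ring
    refine ⟨r, ?_, ?_⟩
    · conv_lhs => rw [hxr]
      simp [TrivSqZeroExt.algebraMap_eq_inl, hmax G₁ hf₁ π hπmem, mul_comm]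
    · conv_lhs => rw [hxr]
      simp [TrivSqZeroExt.algebraMap_eq_inl, hmax G₂ hf₂ π hπmem, ← hfst r, mul_comm]
  have hd₁ : (G₁ π).snd ≠ 0 := by
    intro h
    apply hne
    have : g₁ = (TrivSqZeroExt.inlAlgHom K K K).comp χ := AlgHom.ext fun b => by
      refine TrivSqZeroExt.ext (by simpa using AlgHom.congr_fun hg₁ b) ?_
      obtain ⟨r, hr, -⟩ := key (algebraMap B L b)
      rw [← hG₁ b, hr, h]
      simp
    rw [this, ← pt_comp, hone, MonObj.comp_one]
  let c := (G₂ π).snd / (G₁ π).snd
  refine ⟨TrivSqZeroExt.map (c • LinearMap.id), ?_⟩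
  rw [pt_comp]
  congr 1
  refine AlgHom.ext fun b => TrivSqZeroExt.ext ?_ ?_
  · exact (AlgHom.congr_fun hg₂ b).trans (by simpa using (AlgHom.congr_fun hg₁ b).symm)
  · obtain ⟨r, hr₁, hr₂⟩ := key (algebraMap B L b)
    rw [hG₁] at hr₁
    rw [hG₂] at hr₂
    simp only [AlgHom.comp_apply, TrivSqZeroExt.snd_map, LinearMap.smul_apply, LinearMap.id_apply,
      smul_eq_mul, hr₁, hr₂, c]
    field_simp

/-- An unramified homomorphism of complete group curves is a separable isogeny. -/
theorem isogeny_of_formallyUnramified {X Y : Over (Spec (CommRingCat.of K))}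
    [IsProper X.hom] [IsIntegral X.left] (hX : topologicalKrullDim X.left = 1)
    [IsProper Y.hom] [Smooth Y.hom] [IsIntegral Y.left] (hY : topologicalKrullDim Y.left = 1)
    (φ : X ⟶ Y) [FormallyUnramified φ.left] :
    IsFinite φ.left ∧ Surjective φ.left ∧ Etale φ.left := by
  haveI : IsLocallyNoetherian Y.left := LocallyOfFiniteType.isLocallyNoetherian Y.hom
  haveI : IsProper (φ.left ≫ Y.hom) := by rw [Over.w φ]; infer_instance
  haveI : IsProper φ.left := IsProper.of_comp φ.left Y.hom
  haveI : LocallyQuasiFinite φ.left := AlgSpLib.locallyQuasiFinite_of_formallyUnramified φ.left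
  haveI : IsFinite φ.left := IsFinite.of_isProper_of_locallyQuasiFinite φ.left
  haveI : Surjective φ.left := by
    rw [surjective_iff]
    let η₁ := genericPoint X.left
    let z := φ.left η₁
    have hrange : ∀ x, z ⤳ φ.left x := fun x => (genericPoint_specializes x).map φ.left.continuous
    have hz : z = genericPoint Y.left := by
      by_contra hz
      have hall : ∀ x, φ.left x = z := by
        intro x
        by_contra hx
        have h1 : genericPoint Y.left ⤳ z := genericPoint_specializes z
        have a : φ.left x < z := ⟨hrange x, fun h => hx ((show φ.left x ⤳ z from h).antisymm (hrange x)).eq⟩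
        have b : z < genericPoint Y.left := ⟨h1, fun h => hz ((show z ⤳ _ from h).antisymm h1).eq⟩
        have h2 := Order.coheight_add_one_le a
        have h3 := Order.coheight_add_one_le b
        have h4 := coheight_le_one_of_dim hY (φ.left x)
        have : (1 : ℕ∞) ≤ Order.coheight z := le_trans le_add_self h3
        have : (2 : ℕ∞) ≤ 1 := le_trans (le_trans (by rw [← one_add_one_eq_two]; gcongr) h2) h4
        exact absurd this (by decide)
      haveI : Subsingleton X.left := ⟨fun p q => by
        have hd := (φ.left.isDiscrete_preimage_singleton z).to_subtype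
        have hp : (⟨η₁, hall η₁⟩ : ↥(φ.left ⁻¹' {z})) ⤳ ⟨p, hall p⟩ :=
          (subtype_specializes_iff _ _).2 (genericPoint_specializes p)
        have hq : (⟨η₁, hall η₁⟩ : ↥(φ.left ⁻¹' {z})) ⤳ ⟨q, hall q⟩ :=
          (subtype_specializes_iff _ _).2 (genericPoint_specializes q)
        exact (congrArg Subtype.val hp.eq).symm.trans (congrArg Subtype.val hq.eq)⟩
      rw [topologicalKrullDim, Order.krullDim_eq_of_orderIso (irreducibleSetEquivPoints (α := ↥X.left)),
        Order.krullDim_eq_zero] at hX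
      exact absurd hX (by decide)
    intro y
    have hy : z ⤳ y := hz ▸ genericPoint_specializes y
    exact hy.mem_closed φ.left.isClosedMap.isClosed_range ⟨η₁, rfl⟩
  haveI : IsNoetherian Y.left := by
    haveI : CompactSpace Y.left := HasAffineProperty.iff_of_isAffine.1 (inferInstance : QuasiCompact Y.hom)
    constructor
  haveI : Flat φ.left := S8191.result φ.left
    (WeilExt.isNormalScheme (WeilExt.isRegularLocalRing_stalk_spec (R := K)) Y.hom) hY
  haveI : LocallyOfFinitePresentation φ.left := inferInstance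
  exact ⟨inferInstance, inferInstance, Etale.of_formallyUnramified_of_flat φ.left⟩

end Groth.Agent.EllTan
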